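import Mathlib
import Groth.Prelude.Def_HilbD

/-!
# The Hilbert functor of one point
-/

set_option autoImplicit false
universe u

open CategoryTheory CategoryTheory.Limits AlgebraicGeometry

namespace Groth.Agent.HilbOne

variable {X S : Scheme.{u}} (f : X ⟶ S)

/-- The section `(x, id)` of the projection `X_T ⟶ T`. -/
noncomputable def sect (T : Over S) (x : T.left ⟶ X) (hx : x ≫ f = T.hom) : T.left ⟶ PicF.XT f T :=
  pullback.lift x (𝟙 T.left) (by simpa using hx)

theorem sect_fst (T : Over S) (x : T.left ⟶ X) (hx : x ≫ f = T.hom) :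
    sect f T x hx ≫ pullback.fst f T.hom = x := pullback.lift_fst ..

theorem sect_snd (T : Over S) (x : T.left ⟶ X) (hx : x ≫ f = T.hom) :
    sect f T x hx ≫ pullback.snd f T.hom = 𝟙 _ := pullback.lift_snd ..

instance [IsSeparated f] (T : Over S) (x : T.left ⟶ X) (hx : x ≫ f = T.hom) :
    IsClosedImmersion (sect f T x hx) := by
  haveI : IsClosedImmersion (sect f T x hx ≫ pullback.snd f T.hom) := by rw [sect_snd]; infer_instance
  exact IsClosedImmersion.of_comp (sect f T x hx) (pullback.snd f T.hom)

theorem secGraph_eq (T : Over S) (x : T.left ⟶ X) (hx : x ≫ f = T.hom) :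
    HilbD.secGraph f T x hx = (sect f T x hx).ker := rfl

/-- The graph of a section is finite locally free of degree one over the base. -/
theorem secGraph_mem [IsSeparated f] (T : Over S) (x : T.left ⟶ X) (hx : x ≫ f = T.hom) :
    Mor2.IsFinLocFreeOfDeg 1 ((HilbD.secGraph f T x hx).subschemeι ≫ PicF.XTproj f T) := by
  let s := sect f T x hx
  have h : s.toImage ≫ s.ker.subschemeι ≫ pullback.snd f T.hom = 𝟙 _ := by
    rw [← Category.assoc]
    exact (congrArg (· ≫ pullback.snd f T.hom) s.toImage_imageι).trans (sect_snd f T x hx)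
  have hiso : IsIso (s.ker.subschemeι ≫ pullback.snd f T.hom) := by
    rw [← IsIso.inv_hom_id_assoc s.toImage (s.ker.subschemeι ≫ pullback.snd f T.hom), h]
    infer_instance
  change Mor2.IsFinLocFreeOfDeg 1 (s.ker.subschemeι ≫ pullback.snd f T.hom)
  exact ⟨⟨inferInstance, inferInstance, inferInstance⟩, fun y =>
    congrFun (Scheme.Hom.finrank_eq_one_of_isIso _) y⟩

/-- The graph determines the section. -/
theorem secGraph_injective [IsSeparated f] (T : Over S) (x x' : T.left ⟶ X) (hx : x ≫ f = T.hom)
    (hx' : x' ≫ f = T.hom) (h : HilbD.secGraph f T x hx = HilbD.secGraph f T x' hx') : x = x' := by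
  let l := IsClosedImmersion.lift (sect f T x' hx') (sect f T x hx) (le_of_eq h.symm)
  have hl : l ≫ sect f T x' hx' = sect f T x hx := IsClosedImmersion.lift_fac ..
  have h1 : l = 𝟙 _ := by
    have := congrArg (· ≫ pullback.snd f T.hom) hl
    simpa only [Category.assoc, sect_snd, Category.comp_id] using this
  rw [h1, Category.id_comp] at hl
  rw [← sect_fst f T x hx, ← hl, sect_fst]

/-- Base change of the graph of a section. -/
theorem pull_secGraph [IsSeparated f] {T T' : Over S} (g : T' ⟶ T) (x : T.left ⟶ X) (hx : x ≫ f = T.hom) :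
    HilbD.pull f g (HilbD.secGraph f T x hx) =
      HilbD.secGraph f T' (g.left ≫ x) (by rw [Category.assoc, hx]; exact Over.w g) := by
  let s := sect f T x hx
  let s' := sect f T' (g.left ≫ x) (by rw [Category.assoc, hx]; exact Over.w g)
  let m := PicF.XTmap f g
  have hm1 : m ≫ pullback.fst f T.hom = pullback.fst f T'.hom :=
    (pullback.lift_fst ..).trans (Category.comp_id _)
  have hm2 : m ≫ pullback.snd f T.hom = pullback.snd f T'.hom ≫ g.left :=
    pullback.lift_snd ..
  have hw : g.left ≫ s = s' ≫ m := by
    apply pullback.hom_ext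
    · rw [Category.assoc, Category.assoc, hm1, sect_fst, sect_fst]
    · rw [Category.assoc, Category.assoc, hm2, sect_snd, ← Category.assoc, sect_snd, Category.comp_id, Category.id_comp]
  have hbot : IsPullback m (pullback.snd f T'.hom) (pullback.snd f T.hom) g.left := by
    refine IsPullback.of_right (h₁₂ := pullback.fst f T.hom) (v₁₃ := f) (h₂₂ := T.hom) ?_ hm2 (IsPullback.of_hasPullback f T.hom)
    rw [hm1, Over.w g]
    exact IsPullback.of_hasPullback f T'.hom
  have hpb : IsPullback g.left s' s m := by
    refine IsPullback.of_bot ?_ hw hbot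
    rw [sect_snd, sect_snd]
    exact IsPullback.of_id_snd
  change (pullback.snd s.ker.subschemeι m).ker = s'.ker
  let e := IsPullback.isoPullback hpb
  let k : pullback s m ⟶ pullback s.ker.subschemeι m :=
    pullback.map s m s.ker.subschemeι m s.toImage (𝟙 _) (𝟙 _) (by rw [Category.comp_id]; exact s.toImage_imageι.symm) (by simp)
  haveI : IsIso k := inferInstance
  rw [show s' = (e.hom ≫ k) ≫ pullback.snd s.ker.subschemeι m by
    rw [Category.assoc, pullback.lift_snd, Category.comp_id]; exact (hpb.isoPullback_hom_snd).symm,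
    Scheme.Hom.ker_comp_of_isIso]

/-- A family of one point is the graph of a section. -/
theorem exists_eq_secGraph (T : Over S) (Z : HilbD.Obj f 1 T) :
    ∃ (x : T.left ⟶ X) (hx : x ≫ f = T.hom), HilbD.secGraph f T x hx = Z.1 := by
  obtain ⟨I, ⟨h1, h2, h3⟩, hd⟩ := Z
  let p := I.subschemeι ≫ pullback.snd f T.hom
  haveI : IsFinite p := h1
  haveI : Flat p := h2
  haveI : LocallyOfFinitePresentation p := h3
  haveI : IsIso p := (Scheme.Hom.isIso_iff_finrank_eq p).mpr (funext hd)
  let t := inv p ≫ I.subschemeι
  have ht : t ≫ pullback.snd f T.hom = 𝟙 _ := by rw [Category.assoc]; exact IsIso.inv_hom_id p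
  refine ⟨t ≫ pullback.fst f T.hom, ?_, ?_⟩
  · rw [Category.assoc, pullback.condition, ← Category.assoc, ht, Category.id_comp]
  · have : sect f T (t ≫ pullback.fst f T.hom) (by rw [Category.assoc, pullback.condition, ← Category.assoc, ht, Category.id_comp]) = t := by
      apply pullback.hom_ext
      · rw [sect_fst]
      · rw [sect_snd, ht]
    rw [secGraph_eq, this, Scheme.Hom.ker_comp_of_isIso, Scheme.IdealSheafData.ker_subschemeι]

end Groth.Agent.HilbOne
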