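import Mathlib
import Groth.Prelude.Def_HilbD
import Groth.Agent.ClosedRep.FinLocFree

/-!
# The Hilbert functor of points: the diagonal is closed
-/

set_option autoImplicit false
universe u

open CategoryTheory CategoryTheory.Limits AlgebraicGeometry

namespace Groth.Agent.HilbOne

variable {X S : Scheme.{u}} (f : X ⟶ S)

theorem pull_eq_comap {T T' : Over S} (g : T' ⟶ T) (I : (PicF.XT f T).IdealSheafData) :
    HilbD.pull f g I = I.comap (PicF.XTmap f g) := by
  change (pullback.snd I.subschemeι (PicF.XTmap f g)).ker = (pullback.fst (PicF.XTmap f g) I.subschemeι).ker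
  rw [← pullbackSymmetry_hom_comp_fst, Scheme.Hom.ker_comp_of_isIso]

theorem XTmap_fst {T T' : Over S} (g : T' ⟶ T) :
    PicF.XTmap f g ≫ pullback.fst f T.hom = pullback.fst f T'.hom :=
  (pullback.lift_fst ..).trans (Category.comp_id _)

theorem XTmap_snd {T T' : Over S} (g : T' ⟶ T) :
    PicF.XTmap f g ≫ pullback.snd f T.hom = pullback.snd f T'.hom ≫ g.left :=
  pullback.lift_snd ..

theorem XTmap_comp {T T' T'' : Over S} (h : T'' ⟶ T') (g : T' ⟶ T) :
    PicF.XTmap f (h ≫ g) = PicF.XTmap f h ≫ PicF.XTmap f g := by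
  apply pullback.hom_ext
  · rw [XTmap_fst, Category.assoc, XTmap_fst, XTmap_fst]
  · rw [XTmap_snd, Category.assoc, XTmap_snd, ← Category.assoc (PicF.XTmap f h), XTmap_snd, Category.assoc]
    rfl

theorem pull_pull {T T' T'' : Over S} (h : T'' ⟶ T') (g : T' ⟶ T) (I : (PicF.XT f T).IdealSheafData) :
    HilbD.pull f h (HilbD.pull f g I) = HilbD.pull f (h ≫ g) I := by
  rw [pull_eq_comap, pull_eq_comap, pull_eq_comap, XTmap_comp, Scheme.IdealSheafData.comap_comp]

theorem isPullback_XTmap {T T' : Over S} (g : T' ⟶ T) :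
    IsPullback (PicF.XTmap f g) (pullback.snd f T'.hom) (pullback.snd f T.hom) g.left := by
  refine IsPullback.of_right (h₁₂ := pullback.fst f T.hom) (v₁₃ := f) (h₂₂ := T.hom) ?_ (XTmap_snd f g) (IsPullback.of_hasPullback f T.hom)
  rw [XTmap_fst, Over.w g]
  exact IsPullback.of_hasPullback f T'.hom

/-- Base change of families of points. -/
theorem mem_pull (d : ℕ) {T T' : Over S} (g : T' ⟶ T) (I : (PicF.XT f T).IdealSheafData)
    (hI : Mor2.IsFinLocFreeOfDeg d (I.subschemeι ≫ PicF.XTproj f T)) :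
    Mor2.IsFinLocFreeOfDeg d ((HilbD.pull f g I).subschemeι ≫ PicF.XTproj f T') := by
  let m := PicF.XTmap f g
  let p := I.subschemeι ≫ pullback.snd f T.hom
  obtain ⟨⟨h1, h2, h3⟩, hd⟩ := hI
  haveI : IsFinite p := h1
  haveI : Flat p := h2
  haveI : LocallyOfFinitePresentation p := h3
  rw [pull_eq_comap, ← Scheme.IdealSheafData.comapIso_hom_fst I m, Category.assoc]
  have hpb : IsPullback (pullback.snd m I.subschemeι) (pullback.fst m I.subschemeι ≫ pullback.snd f T'.hom) p g.left :=
    (IsPullback.of_hasPullback m I.subschemeι).flip.paste_vert (isPullback_XTmap f g)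
  refine ⟨⟨?_, ?_, ?_⟩, fun y => ?_⟩
  · haveI := MorphismProperty.of_isPullback hpb.flip.flip (P := @IsFinite) h1
    infer_instance
  · haveI := MorphismProperty.of_isPullback hpb.flip.flip (P := @Flat) h2
    infer_instance
  · haveI := MorphismProperty.of_isPullback hpb.flip.flip (P := @LocallyOfFinitePresentation) h3
    infer_instance
  · haveI := MorphismProperty.of_isPullback hpb.flip.flip (P := @Flat) h2
    haveI := MorphismProperty.of_isPullback hpb.flip.flip (P := @IsFinite) h1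
    rw [Scheme.Hom.finrank_comp_left_of_isIso]
    exact (Scheme.Hom.finrank_of_isPullback _ _ _ _ hpb y).trans (hd (g.left y))

/-- The locus where one family of points is contained in a closed subscheme is closed. -/
theorem exists_reps_pull_le {T : Over S} (I₁ I₂ : (PicF.XT f T).IdealSheafData)
    (h₁ : Mor2.IsFinLocFree (I₁.subschemeι ≫ PicF.XTproj f T)) :
    ∃ J : T.left.IdealSheafData, ∀ {T' : Over S} (h : T' ⟶ T),
      HilbD.pull f h I₂ ≤ HilbD.pull f h I₁ ↔ J.comap h.left = ⊥ := by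
  let p := I₁.subschemeι ≫ pullback.snd f T.hom
  haveI : IsFinite p := h₁.1
  haveI : Flat p := h₁.2.1
  haveI : LocallyOfFinitePresentation p := h₁.2.2
  obtain ⟨J, hJ⟩ := ClosedRep.exists_reps_zeroOn p (𝟙 T.left)
    (I₂.comap (pullback.fst p (𝟙 T.left) ≫ I₁.subschemeι)) (ClosedRep.isLocFree_of_finLocFree p)
  refine ⟨J, fun {T'} h => ?_⟩
  rw [← hJ h.left]
  change _ ↔ ClosedRep.ZeroOn p (𝟙 T.left) _ h.left
  rw [ClosedRep.zeroOn_iff p (𝟙 T.left) _ h.left h.left (Category.comp_id _),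
    ← Scheme.IdealSheafData.comap_comp, ← Category.assoc, pullback.lift_fst, ClosedRep.comap_eq_bot_iff,
    pull_eq_comap, pull_eq_comap, ← Scheme.IdealSheafData.le_map_iff_comap_le]
  let m := PicF.XTmap f h
  have hpb : IsPullback (pullback.snd m I₁.subschemeι) (pullback.fst m I₁.subschemeι ≫ pullback.snd f T'.hom) p h.left :=
    (IsPullback.of_hasPullback m I₁.subschemeι).flip.paste_vert (isPullback_XTmap f h)
  let e := hpb.isoPullback
  have h4 : (I₁.comap m).map m = (pullback.fst p h.left ≫ I₁.subschemeι).ker := by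
    change (pullback.fst m I₁.subschemeι).ker.map m = _
    rw [Scheme.IdealSheafData.map_ker, pullback.condition,
      show pullback.snd m I₁.subschemeι = e.hom ≫ pullback.fst p h.left from hpb.isoPullback_hom_fst.symm,
      Category.assoc, Scheme.Hom.ker_comp_of_isIso]
  rw [h4]

/-- Two morphisms to the representing scheme agree on a closed subscheme: the Hilbert scheme of points is separated. -/
theorem isSeparated_of_universal (d : ℕ) (H : Over S) (Z : HilbD.Obj f d H)
    (hZ : HilbD.IsUniversal f d H Z) : IsSeparated H.hom := by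
  let T : Over S := Over.mk (pullback.fst H.hom H.hom ≫ H.hom)
  let g₁ : T ⟶ H := Over.homMk (pullback.fst H.hom H.hom) rfl
  let g₂ : T ⟶ H := Over.homMk (pullback.snd H.hom H.hom) pullback.condition.symm
  let I₁ := HilbD.pull f g₁ Z.1
  let I₂ := HilbD.pull f g₂ Z.1
  obtain ⟨J, hJ⟩ := exists_reps_pull_le f I₁ I₂ (mem_pull f d g₁ Z.1 Z.2).1
  obtain ⟨J', hJ'⟩ := exists_reps_pull_le f I₂ I₁ (mem_pull f d g₂ Z.1 Z.2).1
  have hW : ∀ {T' : Over S} (h : T' ⟶ T), h ≫ g₁ = h ≫ g₂ ↔ (J ⊔ J').comap h.left = ⊥ := by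
    intro T' h
    rw [Scheme.IdealSheafData.comap_sup, sup_eq_bot_iff, ← hJ h, ← hJ' h, ← le_antisymm_iff]
    have heq : HilbD.pull f h I₂ = HilbD.pull f h I₁ ↔ HilbD.pull f (h ≫ g₂) Z.1 = HilbD.pull f (h ≫ g₁) Z.1 := by
      rw [pull_pull, pull_pull]
    rw [heq]
    refine ⟨fun hh => by rw [hh], fun hh => ?_⟩
    obtain ⟨g, -, hu⟩ := hZ T' ⟨_, mem_pull f d (h ≫ g₁) Z.1 Z.2⟩
    exact (hu _ rfl).trans (hu _ hh).symm
  let K := J ⊔ J'
  let W : Over S := Over.mk (K.subschemeι ≫ T.hom)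
  let i : W ⟶ T := Over.homMk K.subschemeι rfl
  have hi : i ≫ g₁ = i ≫ g₂ := (hW i).mpr ((ClosedRep.comap_eq_bot_iff _ _).mpr (Scheme.IdealSheafData.ker_subschemeι K).ge)
  let Δ : H ⟶ T := Over.homMk (pullback.diagonal H.hom) (by
    change pullback.diagonal H.hom ≫ pullback.fst H.hom H.hom ≫ H.hom = H.hom
    rw [pullback.diagonal_fst_assoc])
  have hΔ₁ : Δ ≫ g₁ = 𝟙 H := Over.OverMorphism.ext (pullback.diagonal_fst H.hom)
  have hΔ₂ : Δ ≫ g₂ = 𝟙 H := Over.OverMorphism.ext (pullback.diagonal_snd H.hom)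
  have hle : K ≤ Δ.left.ker := (ClosedRep.comap_eq_bot_iff _ _).mp ((hW Δ).mp (hΔ₁.trans hΔ₂.symm))
  let z := IsClosedImmersion.lift K.subschemeι Δ.left ((Scheme.IdealSheafData.ker_subschemeι K).trans_le hle)
  have hz : z ≫ K.subschemeι = pullback.diagonal H.hom := IsClosedImmersion.lift_fac ..
  let w : W.left ⟶ H.left := K.subschemeι ≫ pullback.fst H.hom H.hom
  have h1 : z ≫ w = 𝟙 _ := by
    change z ≫ K.subschemeι ≫ _ = _
    rw [← Category.assoc, hz]
    exact pullback.diagonal_fst _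
  have h2 : w ≫ pullback.diagonal H.hom = K.subschemeι := by
    have hi' : K.subschemeι ≫ pullback.fst H.hom H.hom = K.subschemeι ≫ pullback.snd H.hom H.hom :=
      congrArg CommaMorphism.left hi
    apply pullback.hom_ext
    · rw [Category.assoc, pullback.diagonal_fst, Category.comp_id]
    · rw [Category.assoc, pullback.diagonal_snd, Category.comp_id]
      exact hi'
  have h3 : w ≫ z = 𝟙 _ := by
    rw [← cancel_mono K.subschemeι, Category.assoc, hz, h2, Category.id_comp]
  haveI : IsIso z := ⟨w, h1, h3⟩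
  constructor
  rw [← hz]
  infer_instance

end Groth.Agent.HilbOne
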