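import Mathlib
import Groth.Agent.HilbOne.Separated

/-!
# Hilbert functor of points of a closed subscheme
-/

set_option autoImplicit false
universe u

open CategoryTheory CategoryTheory.Limits AlgebraicGeometry

namespace Groth.Agent.HilbOne

theorem comap_map_of_isClosedImmersion {A B : Scheme.{u}} (ι : A ⟶ B) [IsClosedImmersion ι]
    (I : A.IdealSheafData) : (I.map ι).comap ι = I := by
  have hpb : IsPullback I.subschemeι (𝟙 _) ι (I.subschemeι ≫ ι) := by
    refine IsPullback.of_isLimit' ⟨by simp⟩ (PullbackCone.IsLimit.mk _ (fun s => s.snd) ?_ (fun s => Category.comp_id _) (fun s m _ hm => (Category.comp_id m).symm.trans hm))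
    intro s
    rw [← cancel_mono ι, Category.assoc]
    exact s.condition.symm
  change (I.subschemeι ≫ ι).ker.comap ι = I
  rw [← Scheme.IdealSheafData.ker_fst_of_isClosedImmersion (I.subschemeι ≫ ι) ι,
    ← Scheme.Hom.ker_comp_of_isIso hpb.isoPullback.hom, hpb.isoPullback_hom_fst,
    Scheme.IdealSheafData.ker_subschemeι]

theorem isIso_snd_of_ker_le {A B : Scheme.{u}} (ι : A ⟶ B) [IsClosedImmersion ι]
    (K : B.IdealSheafData) (h : ι.ker ≤ K) : IsIso (pullback.snd ι K.subschemeι) := by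
  let l := IsClosedImmersion.lift ι K.subschemeι (h.trans (Scheme.IdealSheafData.ker_subschemeι K).ge)
  have hl : l ≫ ι = K.subschemeι := IsClosedImmersion.lift_fac ..
  refine ⟨pullback.lift l (𝟙 _) (by rw [hl, Category.id_comp]), ?_, pullback.lift_snd ..⟩
  apply pullback.hom_ext
  · rw [Category.assoc, pullback.lift_fst, Category.id_comp, ← cancel_mono ι, Category.assoc, hl,
      pullback.condition]
  · rw [Category.assoc, pullback.lift_snd, Category.comp_id, Category.id_comp]

theorem map_comap_of_ker_le {A B : Scheme.{u}} (ι : A ⟶ B) [IsClosedImmersion ι]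
    (K : B.IdealSheafData) (h : ι.ker ≤ K) : (K.comap ι).map ι = K := by
  haveI := isIso_snd_of_ker_le ι K h
  change (pullback.fst ι K.subschemeι).ker.map ι = K
  rw [Scheme.IdealSheafData.map_ker, pullback.condition, Scheme.Hom.ker_comp_of_isIso,
    Scheme.IdealSheafData.ker_subschemeι]

theorem isIso_snd_comapIso {A B : Scheme.{u}} (ι : A ⟶ B) [IsClosedImmersion ι]
    (K : B.IdealSheafData) (h : ι.ker ≤ K) :
    ∃ e : (K.comap ι).subscheme ⟶ K.subscheme, IsIso e ∧ e ≫ K.subschemeι = (K.comap ι).subschemeι ≫ ι := by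
  haveI := isIso_snd_of_ker_le ι K h
  refine ⟨(K.comapIso ι).hom ≫ pullback.snd ι K.subschemeι, inferInstance, ?_⟩
  rw [Category.assoc, ← pullback.condition, ← Category.assoc, Scheme.IdealSheafData.comapIso_hom_fst]

variable {X Y S : Scheme.{u}} (i : X ⟶ Y) [IsClosedImmersion i] (g : Y ⟶ S)

/-- The closed immersion `X_T ⟶ Y_T`. -/
noncomputable def iota (T : Over S) : PicF.XT (i ≫ g) T ⟶ PicF.XT g T :=
  pullback.map (i ≫ g) T.hom g T.hom i (𝟙 _) (𝟙 S) (Category.comp_id _) (by simp)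

omit [IsClosedImmersion i] in
theorem iota_snd (T : Over S) : iota i g T ≫ pullback.snd g T.hom = pullback.snd (i ≫ g) T.hom :=
  (pullback.lift_snd ..).trans (Category.comp_id _)

omit [IsClosedImmersion i] in
theorem iota_fst (T : Over S) : iota i g T ≫ pullback.fst g T.hom = pullback.fst (i ≫ g) T.hom ≫ i :=
  pullback.lift_fst ..

omit [IsClosedImmersion i] in
theorem isPullback_iota (T : Over S) :
    IsPullback (iota i g T) (pullback.fst (i ≫ g) T.hom) (pullback.fst g T.hom) i := by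
  refine IsPullback.of_right (h₁₂ := pullback.snd g T.hom) (v₁₃ := T.hom) (h₂₂ := g) ?_ (iota_fst i g T)
    (IsPullback.of_hasPullback g T.hom).flip
  rw [iota_snd]
  exact (IsPullback.of_hasPullback (i ≫ g) T.hom).flip

instance (T : Over S) : IsClosedImmersion (iota i g T) :=
  MorphismProperty.of_isPullback (isPullback_iota i g T).flip ‹_›

theorem ker_iota (T : Over S) : (iota i g T).ker = i.ker.comap (pullback.fst g T.hom) := by
  rw [← Scheme.IdealSheafData.ker_fst_of_isClosedImmersion i (pullback.fst g T.hom),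
    ← Scheme.Hom.ker_comp_of_isIso (isPullback_iota i g T).isoPullback.hom,
    (isPullback_iota i g T).isoPullback_hom_fst]

theorem pull_ker_iota {T T' : Over S} (m : T' ⟶ T) :
    HilbD.pull g m (iota i g T).ker = (iota i g T').ker := by
  rw [pull_eq_comap, ker_iota, ker_iota, ← Scheme.IdealSheafData.comap_comp, XTmap_fst]

omit [IsClosedImmersion i] in
theorem push_eq_map (T : Over S) (I : (PicF.XT (i ≫ g) T).IdealSheafData) :
    HilbD.push i g T I = I.map (iota i g T) := rfl

theorem ker_iota_le_push (T : Over S) (I : (PicF.XT (i ≫ g) T).IdealSheafData) :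
    (iota i g T).ker ≤ HilbD.push i g T I :=
  Scheme.Hom.le_ker_comp I.subschemeι (iota i g T)

omit [IsClosedImmersion i] in
theorem iota_XTmap {T T' : Over S} (m : T' ⟶ T) :
    PicF.XTmap (i ≫ g) m ≫ iota i g T = iota i g T' ≫ PicF.XTmap g m := by
  apply pullback.hom_ext
  · rw [Category.assoc, Category.assoc, iota_fst, XTmap_fst, iota_fst, ← Category.assoc, XTmap_fst]
  · rw [Category.assoc, Category.assoc, iota_snd, XTmap_snd, XTmap_snd, ← Category.assoc, iota_snd]

theorem push_pull {T T' : Over S} (m : T' ⟶ T) (K : (PicF.XT g T).IdealSheafData)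
    (h : (iota i g T').ker ≤ HilbD.pull g m K) :
    HilbD.push i g T' (HilbD.pull (i ≫ g) m (K.comap (iota i g T))) = HilbD.pull g m K := by
  rw [push_eq_map, pull_eq_comap, ← Scheme.IdealSheafData.comap_comp, iota_XTmap,
    Scheme.IdealSheafData.comap_comp, ← pull_eq_comap]
  exact map_comap_of_ker_le _ _ h

theorem push_injective (T : Over S) {I J : (PicF.XT (i ≫ g) T).IdealSheafData}
    (h : HilbD.push i g T I = HilbD.push i g T J) : I = J := by
  rw [← comap_map_of_isClosedImmersion (iota i g T) I, ← comap_map_of_isClosedImmersion (iota i g T) J]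
  exact congrArg (fun K => K.comap (iota i g T)) h

theorem mem_comap (d : ℕ) (T : Over S) (K : (PicF.XT g T).IdealSheafData) (h : (iota i g T).ker ≤ K)
    (hK : Mor2.IsFinLocFreeOfDeg d (K.subschemeι ≫ PicF.XTproj g T)) :
    Mor2.IsFinLocFreeOfDeg d ((K.comap (iota i g T)).subschemeι ≫ PicF.XTproj (i ≫ g) T) := by
  obtain ⟨e, he, hfac⟩ := isIso_snd_comapIso (iota i g T) K h
  have : (K.comap (iota i g T)).subschemeι ≫ PicF.XTproj (i ≫ g) T = e ≫ K.subschemeι ≫ PicF.XTproj g T := by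
    rw [reassoc_of% hfac, show iota i g T ≫ PicF.XTproj g T = _ from iota_snd i g T]
  obtain ⟨⟨h1, h2, h3⟩, hd⟩ := hK
  rw [this]
  exact ⟨⟨inferInstance, inferInstance, inferInstance⟩, fun y => by
    rw [Scheme.Hom.finrank_comp_left_of_isIso]; exact hd y⟩

theorem mem_push (d : ℕ) (T : Over S) (I : (PicF.XT (i ≫ g) T).IdealSheafData)
    (hI : Mor2.IsFinLocFreeOfDeg d (I.subschemeι ≫ PicF.XTproj (i ≫ g) T)) :
    Mor2.IsFinLocFreeOfDeg d ((HilbD.push i g T I).subschemeι ≫ PicF.XTproj g T) := by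
  let c := I.subschemeι ≫ iota i g T
  haveI : IsClosedImmersion c := inferInstance
  have : c.ker.subschemeι ≫ PicF.XTproj g T = inv c.toImage ≫ I.subschemeι ≫ PicF.XTproj (i ≫ g) T := by
    rw [IsIso.eq_inv_comp, ← Category.assoc]
    refine (congrArg (· ≫ PicF.XTproj g T) c.toImage_imageι).trans ?_
    rw [Category.assoc]
    exact congrArg (I.subschemeι ≫ ·) (iota_snd i g T)
  obtain ⟨⟨h1, h2, h3⟩, hd⟩ := hI
  change Mor2.IsFinLocFreeOfDeg d (c.ker.subschemeι ≫ PicF.XTproj g T)
  rw [this]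
  exact ⟨⟨inferInstance, inferInstance, inferInstance⟩, fun y => by
    rw [Scheme.Hom.finrank_comp_left_of_isIso]; exact hd y⟩

/-- The Hilbert functor of points of a closed subscheme is a closed subfunctor. -/
theorem closedSub (d : ℕ) (H : Over S) (Z : HilbD.Obj g d H) (hZ : HilbD.IsUniversal g d H Z) :
    HilbD.Representable (i ≫ g) d ∧
    ∀ (H' : Over S) (Z' : HilbD.Obj (i ≫ g) d H') (_ : HilbD.IsUniversal (i ≫ g) d H' Z') (m : H' ⟶ H),
      HilbD.pull g m Z.1 = HilbD.push i g H' Z'.1 → IsClosedImmersion m.left := by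
  obtain ⟨J, hJ⟩ := exists_reps_pull_le g Z.1 (iota i g H).ker Z.2.1
  let W : Over S := Over.mk (J.subschemeι ≫ H.hom)
  let j : W ⟶ H := Over.homMk J.subschemeι rfl
  have hj : (iota i g W).ker ≤ HilbD.pull g j Z.1 := by
    rw [← pull_ker_iota i g j, hJ j, ClosedRep.comap_eq_bot_iff]
    exact (Scheme.IdealSheafData.ker_subschemeι J).ge
  let ZW : HilbD.Obj (i ≫ g) d W :=
    ⟨_, mem_comap i g d W (HilbD.pull g j Z.1) hj (mem_pull g d j Z.1 Z.2)⟩
  have hpush : ∀ {T : Over S} (w : T ⟶ W),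
      HilbD.push i g T (HilbD.pull (i ≫ g) w ZW.1) = HilbD.pull g (w ≫ j) Z.1 := by
    intro T w
    rw [← pull_pull g w j]
    refine push_pull i g w _ ?_
    rw [← pull_ker_iota i g w, pull_eq_comap, pull_eq_comap]
    exact Scheme.IdealSheafData.comap_mono _ hj
  have huniv : HilbD.IsUniversal (i ≫ g) d W ZW := by
    intro T Z'
    obtain ⟨t, ht, htu⟩ := hZ T ⟨_, mem_push i g d T Z'.1 Z'.2⟩
    have ht' : (iota i g T).ker ≤ HilbD.pull g t Z.1 := by rw [ht]; exact ker_iota_le_push i g T Z'.1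
    rw [← pull_ker_iota i g t, hJ t, ClosedRep.comap_eq_bot_iff] at ht'
    let l := IsClosedImmersion.lift J.subschemeι t.left ((Scheme.IdealSheafData.ker_subschemeι J).trans_le ht')
    have hl : l ≫ J.subschemeι = t.left := IsClosedImmersion.lift_fac ..
    let w : T ⟶ W := Over.homMk l (by change l ≫ J.subschemeι ≫ H.hom = T.hom; rw [reassoc_of% hl, Over.w])
    have hw : w ≫ j = t := Over.OverMorphism.ext hl
    refine ⟨w, ?_, fun w' hw' => ?_⟩
    · apply push_injective i g T
      rw [hpush, hw, ht]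
    · have h1 : w' ≫ j = t := htu _ (by
        change HilbD.pull g (w' ≫ j) Z.1 = HilbD.push i g T Z'.1
        rw [← hpush, hw'])
      apply Over.OverMorphism.ext
      exact (cancel_mono J.subschemeι).mp ((congrArg CommaMorphism.left h1).trans hl.symm)
  refine ⟨⟨W, ZW, huniv⟩, fun H' Z' hZ' m hm => ?_⟩
  obtain ⟨e, he, -⟩ := huniv H' Z'
  obtain ⟨e', he', -⟩ := hZ' W ZW
  have h1 : e ≫ e' = 𝟙 _ := by
    obtain ⟨x, -, hx⟩ := hZ' H' ⟨_, mem_pull (i ≫ g) d (𝟙 H') Z'.1 Z'.2⟩
    refine (hx _ ?_).trans (hx _ rfl).symm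
    change HilbD.pull (i ≫ g) (e ≫ e') Z'.1 = HilbD.pull (i ≫ g) (𝟙 H') Z'.1
    rw [← pull_pull, he', he, pull_eq_comap]
    have : PicF.XTmap (i ≫ g) (𝟙 H') = 𝟙 _ := by
      apply pullback.hom_ext
      · rw [XTmap_fst, Category.id_comp]
      · rw [XTmap_snd, Category.id_comp]; exact (Category.comp_id _)
    rw [this, Scheme.IdealSheafData.comap_id]
  have h2 : e' ≫ e = 𝟙 _ := by
    obtain ⟨x, -, hx⟩ := huniv W ⟨_, mem_pull (i ≫ g) d (𝟙 W) ZW.1 ZW.2⟩
    refine (hx _ ?_).trans (hx _ rfl).symm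
    change HilbD.pull (i ≫ g) (e' ≫ e) ZW.1 = HilbD.pull (i ≫ g) (𝟙 W) ZW.1
    rw [← pull_pull, he, he', pull_eq_comap]
    have : PicF.XTmap (i ≫ g) (𝟙 W) = 𝟙 _ := by
      apply pullback.hom_ext
      · rw [XTmap_fst, Category.id_comp]
      · rw [XTmap_snd, Category.id_comp]; exact (Category.comp_id _)
    rw [this, Scheme.IdealSheafData.comap_id]
  have hm' : m = e ≫ j := by
    obtain ⟨x, -, hx⟩ := hZ H' ⟨_, mem_push i g d H' Z'.1 Z'.2⟩
    refine (hx _ hm).trans (hx _ ?_).symm
    change HilbD.pull g (e ≫ j) Z.1 = HilbD.push i g H' Z'.1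
    rw [← hpush, he]
  haveI : IsIso e := ⟨e', h1, h2⟩
  rw [hm']
  change IsClosedImmersion (e.left ≫ J.subschemeι)
  haveI : IsIso e.left := (inferInstance : IsIso ((Over.forget S).map e))
  infer_instance

end Groth.Agent.HilbOne
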