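import Mathlib
import Groth.Agent.HilbOne.Separated
import Groth.Agent.FpqcDescent.IdealGlue
import Groth.Agent.FpqcDescent.Props

/-!
# fpqc descent for families of points
-/

set_option autoImplicit false
universe u

open CategoryTheory CategoryTheory.Limits AlgebraicGeometry

namespace Groth.Agent.HilbOne

variable {X S : Scheme.{u}} (f : X ⟶ S)

theorem existsUnique_descent (d : ℕ) (T : Over S) {T' : Scheme.{u}} (g : T' ⟶ T.left)
    [QuasiCompact g] [Flat g] [Surjective g] (Z' : HilbD.Obj f d (HilbD.coverOver T g))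
    (hZ' : HilbD.pull f (HilbD.overlapFst T g) Z'.1 = HilbD.pull f (HilbD.overlapSnd T g) Z'.1) :
    ∃! I : (PicF.XT f T).IdealSheafData, Mor2.IsFinLocFreeOfDeg d (I.subschemeι ≫ PicF.XTproj f T) ∧
      HilbD.pull f (HilbD.coverHom T g) I = Z'.1 := by
  let c := HilbD.coverHom T g
  let m := PicF.XTmap f c
  have hm := isPullback_XTmap f c
  haveI : QuasiCompact m := MorphismProperty.of_isPullback hm.flip (P := @QuasiCompact) ‹_›
  haveI : Flat m := MorphismProperty.of_isPullback hm.flip (P := @Flat) ‹_›
  haveI : Surjective m := MorphismProperty.of_isPullback hm.flip (P := @Surjective) ‹_›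
  let p := pullback.snd f (HilbD.coverOver T g).hom
  have hc : (pullback.fst m m ≫ p) ≫ g = (pullback.snd m m ≫ p) ≫ g := by
    have := congrArg (· ≫ pullback.snd f T.hom) (pullback.condition (f := m) (g := m))
    simp only [Category.assoc, m, XTmap_snd] at this ⊢
    exact this
  let ψ : pullback m m ⟶ PicF.XT f (HilbD.overlapOver T g) :=
    pullback.lift (pullback.fst m m ≫ pullback.fst f _) (pullback.lift (pullback.fst m m ≫ p) (pullback.snd m m ≫ p) hc) (by
      change _ = pullback.lift _ _ hc ≫ (pullback.fst g g ≫ g) ≫ T.hom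
      rw [← Category.assoc, ← Category.assoc, pullback.lift_fst, Category.assoc, pullback.condition]
      simp only [Category.assoc, p]
      rfl)
  have hψ₁ : ψ ≫ PicF.XTmap f (HilbD.overlapFst T g) = pullback.fst m m := by
    apply pullback.hom_ext
    · rw [Category.assoc, XTmap_fst]
      exact pullback.lift_fst ..
    · rw [Category.assoc, XTmap_snd, ← Category.assoc]
      exact (congrArg (· ≫ pullback.fst g g) (pullback.lift_snd ..)).trans (pullback.lift_fst ..)
  have hψ₂ : ψ ≫ PicF.XTmap f (HilbD.overlapSnd T g) = pullback.snd m m := by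
    apply pullback.hom_ext
    · rw [Category.assoc, XTmap_fst]
      refine (pullback.lift_fst ..).trans ?_
      have := congrArg (· ≫ pullback.fst f T.hom) (pullback.condition (f := m) (g := m))
      simpa only [Category.assoc, m, XTmap_fst] using this
    · rw [Category.assoc, XTmap_snd, ← Category.assoc]
      exact (congrArg (· ≫ pullback.snd g g) (pullback.lift_snd ..)).trans (pullback.lift_snd ..)
  have hcov : Presieve.ofArrows (fun _ : PUnit.{u + 1} => PicF.XT f (HilbD.coverOver T g)) (fun _ => m) ∈
      Scheme.fpqcPrecoverage (PicF.XT f T) := by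
    rw [Presieve.ofArrows_pUnit]
    exact Scheme.Hom.singleton_mem_fpqcPrecoverage m
  obtain ⟨J, hJ, hu⟩ := FpqcDescent.existsUnique_descent hcov (fun _ => Z'.1) (fun _ _ => by
    change Z'.1.comap (pullback.fst m m) = Z'.1.comap (pullback.snd m m)
    rw [← hψ₁, ← hψ₂, Scheme.IdealSheafData.comap_comp, Scheme.IdealSheafData.comap_comp,
      ← pull_eq_comap, ← pull_eq_comap, hZ'])
  have hJ' : HilbD.pull f c J = Z'.1 := by rw [pull_eq_comap]; exact hJ PUnit.unit
  refine ⟨J, ⟨?_, hJ'⟩, fun I hI => hu I fun _ => (pull_eq_comap f c I).symm.trans hI.2⟩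
  have hpb : IsPullback (pullback.fst m J.subschemeι ≫ pullback.snd f (HilbD.coverOver T g).hom)
      (pullback.snd m J.subschemeι) g (J.subschemeι ≫ pullback.snd f T.hom) :=
    ((IsPullback.of_hasPullback m J.subschemeι).flip.paste_vert hm).flip
  let q := pullback.fst m J.subschemeι ≫ pullback.snd f (HilbD.coverOver T g).hom
  obtain ⟨⟨h1, h2, h3⟩, hd⟩ := Z'.2
  have hq : ((Z'.1).subschemeι ≫ PicF.XTproj f (HilbD.coverOver T g)) =
      eqToHom (by rw [← hJ', pull_eq_comap]) ≫ (J.comapIso m).hom ≫ q := by
    have key : ∀ (I : (PicF.XT f (HilbD.coverOver T g)).IdealSheafData) (e : J.comap m = I),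
        I.subschemeι = eqToHom (by rw [e]) ≫ (J.comapIso m).hom ≫ pullback.fst m J.subschemeι := by
      rintro _ rfl
      rw [eqToHom_refl, Category.id_comp, Scheme.IdealSheafData.comapIso_hom_fst]
    rw [key Z'.1 ((pull_eq_comap f c J).symm.trans hJ'), Category.assoc, Category.assoc]
  haveI : IsFinite q := by
    have := h1
    rw [hq] at this
    rwa [MorphismProperty.cancel_left_of_respectsIso (P := @IsFinite),
      MorphismProperty.cancel_left_of_respectsIso (P := @IsFinite)] at this
  haveI : Flat q := by
    have := h2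
    rw [hq] at this
    rwa [MorphismProperty.cancel_left_of_respectsIso (P := @Flat),
      MorphismProperty.cancel_left_of_respectsIso (P := @Flat)] at this
  haveI : LocallyOfFinitePresentation q := by
    have := h3
    rw [hq] at this
    rwa [MorphismProperty.cancel_left_of_respectsIso (P := @LocallyOfFinitePresentation),
      MorphismProperty.cancel_left_of_respectsIso (P := @LocallyOfFinitePresentation)] at this
  have hg : (@Surjective ⊓ @Flat ⊓ @QuasiCompact : MorphismProperty Scheme.{u}) g := ⟨⟨‹_›, ‹_›⟩, ‹_›⟩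
  haveI : IsFinite (J.subschemeι ≫ pullback.snd f T.hom) :=
    MorphismProperty.of_isPullback_of_descendsAlong (P := @IsFinite) hpb hg ‹_›
  haveI : Flat (J.subschemeι ≫ pullback.snd f T.hom) :=
    MorphismProperty.of_isPullback_of_descendsAlong (P := @Flat) hpb hg ‹_›
  haveI : LocallyOfFinitePresentation (J.subschemeι ≫ pullback.snd f T.hom) :=
    MorphismProperty.of_isPullback_of_descendsAlong (P := @LocallyOfFinitePresentation) hpb hg ‹_›
  refine ⟨⟨‹_›, ‹_›, ‹_›⟩, fun y => ?_⟩
  obtain ⟨y', rfl⟩ := g.surjective y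
  refine (Scheme.Hom.finrank_of_isPullback _ _ _ _ hpb.flip y').symm.trans ?_
  have := hd y'
  rw [hq, Scheme.Hom.finrank_comp_left_of_isIso, Scheme.Hom.finrank_comp_left_of_isIso] at this
  exact this

end Groth.Agent.HilbOne
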